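import Mathlib.Data.Nat.Nth
import Mathlib.Data.Set.Card
import Mathlib.Algebra.Group.Submonoid.Membership
import Mathlib.Algebra.Group.Submonoid.Basic
import Mathlib.Order.Interval.Finset.Nat
import Mathlib.Order.Interval.Set.Infinite

/-!
# Numerical semigroups and their modules
-/

set_option autoImplicit false

namespace Groth.Agent.TFCurv

open Set

theorem exists_max_gap_in_class {Γ : AddSubmonoid ℕ} {c : ℕ} (hc : ∀ n : ℕ, c ≤ n → n ∈ Γ)
    {e : ℕ} (he : e ∈ Γ) (he0 : e ≠ 0) {g : ℕ} (hg : g ∉ Γ) :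
    ∃ g', g' ∉ Γ ∧ g' % e = g % e ∧ g' + e ∈ Γ := by
  classical
  have hmul : ∀ k, k * e ∈ Γ := fun k => by simpa using Γ.nsmul_mem he k
  have hex : ∃ k, g + k * e ∈ Γ := ⟨c, hc _ (le_trans (Nat.le_mul_of_pos_right c (by omega)) le_add_self)⟩
  let k := Nat.find hex
  have hk : g + k * e ∈ Γ := Nat.find_spec hex
  have hk0 : k ≠ 0 := fun h => hg (by simpa [h] using hk)
  refine ⟨g + (k - 1) * e, Nat.find_min hex (by omega), ?_, ?_⟩
  · simp [Nat.add_mul_mod_self_right]
  · rw [add_assoc, show (k - 1) * e + e = k * e by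
      rw [← Nat.succ_mul]; congr 1; omega]
    exact hk

/-- In a symmetric semigroup with `1, 2 ∉ Γ`, every `n ≥ c` is a sum of two smaller elements. -/
theorem exists_decomp_of_symmetric {Γ : AddSubmonoid ℕ} {c : ℕ} (hc : ∀ n : ℕ, c ≤ n → n ∈ Γ)
    (hc1 : c - 1 ∉ Γ) (hsymm : ∀ x : ℕ, x < c → (x ∉ Γ ↔ c - 1 - x ∈ Γ))
    (h1 : (1 : ℕ) ∉ Γ) (h2 : (2 : ℕ) ∉ Γ) {n : ℕ} (hn : c ≤ n) :
    ∃ a b, a ∈ Γ ∧ b ∈ Γ ∧ a < n ∧ b < n ∧ a + b = n := by
  classical
  have hex : ∃ e, e ∈ Γ ∧ e ≠ 0 := ⟨c + 1, hc _ (by omega), by omega⟩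
  obtain ⟨he, he0⟩ := Nat.find_spec hex
  have hemin : ∀ γ, γ ∈ Γ → γ ≠ 0 → Nat.find hex ≤ γ := fun γ h h' => Nat.find_min' hex ⟨h, h'⟩
  generalize Nat.find hex = e at he he0 hemin
  have he3 : 3 ≤ e := by
    rcases e with _ | _ | _ | e
    · omega
    · exact absurd he h1
    · exact absurd he h2
    · omega
  have hc3 : 3 ≤ c := by
    by_contra h
    exact h2 (hc 2 (by omega))
  have hec : e < c := by
    by_contra h
    push Not at h
    have hmem := (hsymm 1 (by omega)).1 h1
    have := hemin _ hmem (by omega)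
    omega
  by_cases hbig : c + e ≤ n
  · exact ⟨e, n - e, he, hc _ (by omega), by omega, by omega, by omega⟩
  obtain ⟨g, hg, hgc, hge, hgn⟩ :
      ∃ g, g ∉ Γ ∧ g ≠ c - 1 ∧ g + e ∈ Γ ∧ n ≤ c - 1 + e := by
    obtain ⟨g₁, hg₁, hm₁, hge₁⟩ := exists_max_gap_in_class hc he he0 h1
    obtain ⟨g₂, hg₂, hm₂, hge₂⟩ := exists_max_gap_in_class hc he he0 h2
    rw [Nat.mod_eq_of_lt (show 1 < e by omega)] at hm₁
    rw [Nat.mod_eq_of_lt (show 2 < e by omega)] at hm₂
    by_cases h : g₁ = c - 1
    · exact ⟨g₂, hg₂, by rintro rfl; rw [h] at hm₁; omega, hge₂, by omega⟩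
    · exact ⟨g₁, hg₁, h, hge₁, by omega⟩
  by_cases hk : n < c - 1 + e
  · refine ⟨e, n - e, he, ?_, by omega, by omega, by omega⟩
    have hgap : c - 1 - (n - e) ∉ Γ := by
      intro h
      have := hemin _ h (by omega)
      omega
    have := (hsymm _ (by omega)).1 hgap
    rwa [show c - 1 - (c - 1 - (n - e)) = n - e by omega] at this
  · have hgc' : g < c := by
      by_contra h
      exact hg (hc g (by omega))
    exact ⟨g + e, c - 1 - g, hge, (hsymm g hgc').1 hg, by omega, by omega, by omega⟩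

theorem exists_generators_of_symmetric {Γ : AddSubmonoid ℕ} {c : ℕ} (hc : ∀ n : ℕ, c ≤ n → n ∈ Γ)
    (hc1 : c - 1 ∉ Γ) (hsymm : ∀ x : ℕ, x < c → (x ∉ Γ ↔ c - 1 - x ∈ Γ))
    {e : ℕ} (he : e ∈ Γ) (hemin : ∀ γ : ℕ, γ ∈ Γ → γ ≠ 0 → e ≤ γ) (he2 : 2 < e) :
    ∃ G : Finset ℕ, G.card ≤ e - 1 ∧ AddSubmonoid.closure (↑G : Set ℕ) = Γ := by
  classical
  have h1 : (1 : ℕ) ∉ Γ := fun h => by have := hemin 1 h (by omega); omega
  have h2 : (2 : ℕ) ∉ Γ := fun h => by have := hemin 2 h (by omega); omega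
  have hex : ∀ r : ℕ, ∃ n, n ∈ Γ ∧ n % e = r % e := fun r =>
    ⟨c * e + r % e, hc _ (le_trans (Nat.le_mul_of_pos_right c (by omega)) le_self_add),
      by simp [Nat.add_mod]⟩
  let w : ℕ → ℕ := fun r => Nat.find (hex r)
  have hw : ∀ r, w r ∈ Γ ∧ w r % e = r % e := fun r => Nat.find_spec (hex r)
  have hrc : (c - 1) % e ≠ 0 := by
    intro h
    obtain ⟨k, hk⟩ := Nat.dvd_of_mod_eq_zero h
    exact hc1 (by rw [hk, mul_comm]; simpa using Γ.nsmul_mem he k)
  refine ⟨insert e ((((Finset.range e).erase 0).erase ((c - 1) % e)).image w), ?_, ?_⟩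
  · refine (Finset.card_insert_le _ _).trans ?_
    have h1' := Finset.card_image_le (s := ((Finset.range e).erase 0).erase ((c - 1) % e)) (f := w)
    rw [Finset.card_erase_of_mem (by simp [hrc, Nat.mod_lt, show 0 < e by omega]),
      Finset.card_erase_of_mem (by simp; omega), Finset.card_range] at h1'
    omega
  · refine le_antisymm (AddSubmonoid.closure_le.2 ?_) ?_
    · intro x hx
      simp only [Finset.coe_insert, Finset.coe_image, Set.mem_insert_iff, Set.mem_image] at hx
      obtain rfl | ⟨r, -, rfl⟩ := hx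
      · exact he
      · exact (hw r).1
    · intro n hn
      induction n using Nat.strong_induction_on with
      | _ n ih =>
        by_cases hn0 : n = 0
        · subst hn0; exact zero_mem _
        by_cases hne : e ≤ n ∧ n - e ∈ Γ
        · rw [show n = (n - e) + e by omega]
          exact add_mem (ih _ (by omega) hne.2)
            (AddSubmonoid.subset_closure (Finset.mem_insert_self _ _))
        have hwn : w n = n := by
          have hle : w n ≤ n := Nat.find_min' (hex n) ⟨hn, rfl⟩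
          by_contra hne'
          have hdvd : e ∣ n - w n := by
            exact (Nat.modEq_iff_dvd' hle).1 (hw n).2
          obtain ⟨k, hk⟩ := hdvd
          have hk0 : k ≠ 0 := by rintro rfl; simp at hk; omega
          have : e ≤ e * k := Nat.le_mul_of_pos_right e (by omega)
          refine hne ⟨by omega, ?_⟩
          rw [show n - e = w n + (k - 1) * e by rw [mul_comm, Nat.mul_sub_one]; omega]
          exact add_mem (hw n).1 (by simpa using Γ.nsmul_mem he (k - 1))
        by_cases hr : n % e = (c - 1) % e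
        · have hnc : c ≤ n := by
            by_contra hlt
            have hdvd : e ∣ (c - 1) - n := (Nat.modEq_iff_dvd' (by omega)).1 hr
            obtain ⟨k, hk⟩ := hdvd
            apply hc1
            rw [show c - 1 = n + k * e by rw [mul_comm]; omega]
            exact add_mem hn (by simpa using Γ.nsmul_mem he k)
          obtain ⟨a, b, ha, hb, han, hbn, rfl⟩ := exists_decomp_of_symmetric hc hc1 hsymm h1 h2 hnc
          exact add_mem (ih a han ha) (ih b hbn hb)
        · refine AddSubmonoid.subset_closure ?_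
          have hr0 : n % e ≠ 0 := by
            intro h
            obtain ⟨k, hk⟩ := Nat.dvd_of_mod_eq_zero h
            have hk0 : k ≠ 0 := by rintro rfl; simp at hk; omega
            have : e ≤ e * k := Nat.le_mul_of_pos_right e (by omega)
            refine hne ⟨by omega, ?_⟩
            rw [show n - e = (k - 1) * e by rw [mul_comm, Nat.mul_sub_one]; omega]
            simpa using Γ.nsmul_mem he (k - 1)
          have hwr : w (n % e) = n := by
            have : w (n % e) = w n := by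
              refine le_antisymm (Nat.find_min' _ ⟨(hw n).1, by simp [(hw n).2]⟩)
                (Nat.find_min' _ ⟨(hw (n % e)).1, by simp [(hw (n % e)).2]⟩)
            rw [this, hwn]
          simp only [Finset.coe_insert, Finset.coe_image, Set.mem_insert_iff, Set.mem_image]
          exact Or.inr ⟨n % e, by simp [hr, hr0, Nat.mod_lt, show 0 < e by omega], hwr⟩

section Nth

open Classical in
theorem nth_add_ncard_compl {S : Set ℕ} (hinf : S.Infinite) (i : ℕ) :
    Nat.nth (fun m => m ∈ S) i = i + (Sᶜ ∩ Iio (Nat.nth (fun m => m ∈ S) i)).ncard := by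
  generalize hN : Nat.nth (fun m => m ∈ S) i = N
  have h1 : Nat.count (fun m => m ∈ S) N = i := by
    rw [← hN]; exact Nat.count_nth_of_infinite (p := fun m => m ∈ S) hinf i
  have h2 : (Sᶜ ∩ Iio N).ncard = ((Finset.range N).filter fun m => ¬ m ∈ S).card := by
    rw [← ncard_coe_finset]; congr 1; ext m; simp [and_comm]
  have h3 := Finset.card_filter_add_card_filter_not (s := Finset.range N) (fun m => m ∈ S)
  rw [Nat.count_eq_card_filter_range] at h1
  rw [h2, ← h1]
  simpa using h3.symm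

theorem tau_aux {S : Set ℕ} {cS : ℕ} (hcS : ∀ n, cS ≤ n → n ∈ S)
    (hcS1 : cS = 0 ∨ cS - 1 ∉ S) (i : ℕ) :
    Nat.nth (fun m => m ∈ S) i ≤ i + Sᶜ.ncard ∧
      ((S ∩ Iio cS).ncard ≤ i → Nat.nth (fun m => m ∈ S) i = i + Sᶜ.ncard) ∧
      (i < (S ∩ Iio cS).ncard → Nat.nth (fun m => m ∈ S) i < i + Sᶜ.ncard) := by
  classical
  have hinf : S.Infinite := (Ici_infinite cS).mono hcS
  have hsub : Sᶜ ⊆ Iio cS := fun n hn => by
    by_contra h
    exact hn (hcS n (by simpa using h))
  have hfin : Sᶜ.Finite := (finite_Iio cS).subset hsub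
  have hmem := Nat.nth_mem_of_infinite (p := fun m => m ∈ S) hinf i
  have hcount : ∀ m, Nat.count (fun m => m ∈ S) m = (S ∩ Iio m).ncard := by
    intro m
    rw [Nat.count_eq_card_filter_range, ← ncard_coe_finset]; congr 1; ext; simp [and_comm]
  refine ⟨?_, fun hr => ?_, fun hr => ?_⟩
  · rw [nth_add_ncard_compl hinf i]
    exact Nat.add_le_add_left (ncard_le_ncard inter_subset_left hfin) i
  · have hge : cS ≤ Nat.nth (fun m => m ∈ S) i :=
      (Nat.count_le_iff_le_nth (p := fun m => m ∈ S) hinf).1 (by rw [hcount]; exact hr)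
    rw [nth_add_ncard_compl hinf i]
    congr 2
    refine inter_eq_left.2 fun n hn => ?_
    exact (hsub hn).trans_le hge
  · have hlt : Nat.nth (fun m => m ∈ S) i < cS :=
      Nat.nth_lt_of_lt_count (by rw [hcount]; exact hr)
    have hgap : cS - 1 ∉ S := hcS1.resolve_left (by omega)
    have hne : Nat.nth (fun m => m ∈ S) i ≠ cS - 1 := fun h => hgap (h ▸ hmem)
    have hlt' : (Sᶜ ∩ Iio (Nat.nth (fun m => m ∈ S) i)).ncard < Sᶜ.ncard := by
      refine ncard_lt_ncard (ssubset_iff_subset_ne.2 ⟨inter_subset_left, fun h => ?_⟩) hfin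
      have h' := (h.ge (show cS - 1 ∈ Sᶜ from hgap)).2
      simp only [mem_Iio] at h'
      omega
    have := nth_add_ncard_compl hinf i
    omega

end Nth

end Groth.Agent.TFCurv
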